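import Cfsg.Agent.Lib.Helper6.LB1
import Cfsg.Agent.Lib.Helper6.TCD.SuzaL.Lv
set_option autoImplicit false
set_option maxRecDepth 1000000
set_option Elab.async false
open Cfsg.Agent.Lib.Helper6.TC
namespace Cfsg.Agent.Lib.Helper6.TCD.SuzaL
open Cfsg.Agent.Lib.Helper6.TCD.Suza
theorem chkOrbL0 : chkOrb labL0 rnkL0 mvL0 0 1782 = true := by decide +kernel
theorem cntL0 : cntLab labL0 1 1782 = 1782 := by decide +kernel
theorem chkOrbL1 : chkOrb labL1 rnkL1 mvL1 995 1782 = true := by decide +kernel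
theorem cntL1 : cntLab labL1 1 1782 = 416 := by decide +kernel
theorem fixL1_0_0 : Nat.beq (WL1_0 0) 0 = true := by decide +kernel
theorem fixL1_1_0 : Nat.beq (WL1_1 0) 0 = true := by decide +kernel
theorem fixL1_2_0 : Nat.beq (WL1_2 0) 0 = true := by decide +kernel
theorem fixL1_3_0 : Nat.beq (WL1_3 0) 0 = true := by decide +kernel
theorem fixL1_4_0 : Nat.beq (WL1_4 0) 0 = true := by decide +kernel
theorem chkOrbL2 : chkOrb labL2 rnkL2 mvL2 36 1782 = true := by decide +kernel
theorem cntL2 : cntLab labL2 1 1782 = 1050 := by decide +kernel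
theorem fixL2_0_0 : Nat.beq (WL2_0 0) 0 = true := by decide +kernel
theorem fixL2_0_1 : Nat.beq (WL2_0 995) 995 = true := by decide +kernel
theorem fixL2_1_0 : Nat.beq (WL2_1 0) 0 = true := by decide +kernel
theorem fixL2_1_1 : Nat.beq (WL2_1 995) 995 = true := by decide +kernel
theorem fixL2_2_0 : Nat.beq (WL2_2 0) 0 = true := by decide +kernel
theorem fixL2_2_1 : Nat.beq (WL2_2 995) 995 = true := by decide +kernel
theorem fixL2_3_0 : Nat.beq (WL2_3 0) 0 = true := by decide +kernel
theorem fixL2_3_1 : Nat.beq (WL2_3 995) 995 = true := by decide +kernel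
theorem chkOrbL3 : chkOrb labL3 rnkL3 mvL3 1742 1782 = true := by decide +kernel
theorem cntL3 : cntLab labL3 1 1782 = 192 := by decide +kernel
theorem fixL3_0_0 : Nat.beq (WL3_0 0) 0 = true := by decide +kernel
theorem fixL3_0_1 : Nat.beq (WL3_0 995) 995 = true := by decide +kernel
theorem fixL3_0_2 : Nat.beq (WL3_0 36) 36 = true := by decide +kernel
theorem fixL3_1_0 : Nat.beq (WL3_1 0) 0 = true := by decide +kernel
theorem fixL3_1_1 : Nat.beq (WL3_1 995) 995 = true := by decide +kernel
theorem fixL3_1_2 : Nat.beq (WL3_1 36) 36 = true := by decide +kernel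
theorem fixL3_2_0 : Nat.beq (WL3_2 0) 0 = true := by decide +kernel
theorem fixL3_2_1 : Nat.beq (WL3_2 995) 995 = true := by decide +kernel
theorem fixL3_2_2 : Nat.beq (WL3_2 36) 36 = true := by decide +kernel
theorem fixL3_3_0 : Nat.beq (WL3_3 0) 0 = true := by decide +kernel
theorem fixL3_3_1 : Nat.beq (WL3_3 995) 995 = true := by decide +kernel
theorem fixL3_3_2 : Nat.beq (WL3_3 36) 36 = true := by decide +kernel
theorem chkOrbL4 : chkOrb labL4 rnkL4 mvL4 1 1782 = true := by decide +kernel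
theorem cntL4 : cntLab labL4 1 1782 = 3 := by decide +kernel
theorem fixL4_0_0 : Nat.beq (WL4_0 0) 0 = true := by decide +kernel
theorem fixL4_0_1 : Nat.beq (WL4_0 995) 995 = true := by decide +kernel
theorem fixL4_0_2 : Nat.beq (WL4_0 36) 36 = true := by decide +kernel
theorem fixL4_0_3 : Nat.beq (WL4_0 1742) 1742 = true := by decide +kernel
end Cfsg.Agent.Lib.Helper6.TCD.SuzaL
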